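import Groth.Agent.Lib.DlzSch27.Cover
import Groth.Agent.Lib.DlzSch27.Stalk
import Groth.Agent.Lib.DGen9.RelTilde
import Groth.Agent.Lib.RelPCS8.StalkId
import Groth.Agent.Lib.Dlz27.GlueApps
import Groth.Agent.Lib.Dlz27.FlatExtMain
import Groth.Agent.Lib.DBaseChange.ExtFlat
import Groth.Agent.Lib.DPerf.Noeth
import Groth.Agent.Lib.ModM1.Fpqc
import Groth.Agent.Lib.InjMod.QCohInj
import Groth.Prelude.Def_DerSch
import Groth.Prelude.Def_DualSch

/-!
Dualizing complexes from dualizing stalks.
-/

set_option autoImplicit false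
set_option backward.isDefEq.respectTransparency false
set_option backward.isDefEq.respectTransparency.types false
set_option linter.style.haveILetI false
set_option maxHeartbeats 800000

universe u

open CategoryTheory CategoryTheory.Limits AlgebraicGeometry

attribute [local instance] HasDerivedCategory.standard

noncomputable section

namespace Groth.Agent.DlzStalk9

open DBaseChange

/-- Transport along an isomorphism of rings. -/
theorem isDualizing_ext_bijective {B S : Type u} [CommRing B] [CommRing S] (τ : B →+* S)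
    (hτ : Function.Bijective τ) (Z : DRing.Cx B) (h : Dual.IsDualizing B (DerivedCategory.Q.obj Z)) :
    Dual.IsDualizing S (DerivedCategory.Q.obj ((extCx τ).obj Z)) := by
  haveI := h.isNoetherianRing
  haveI : IsNoetherianRing S := isNoetherianRing_of_surjective B S τ hτ.2
  let M := Dlz27.model h
  have hflat : τ.Flat := RingHom.Flat.of_bijective hτ
  obtain ⟨e⟩ := nonempty_ext_iso τ hflat (P := M.W) (Q := Z) M.e
  refine Dlz27.isDualizing_of_iso e (Dlz27.isDualizing_ext τ hflat h M fun n hn => ?_)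
  refine ⟨Ideal.comap_isMaximal_of_surjective τ hτ.2, ?_⟩
  rw [Ideal.map_comap_of_surjective τ hτ.2, Localization.AtPrime.map_eq_maximalIdeal]

variable {X : Scheme.{u}}

theorem exact_stalkFunctor (x : X) :
    PreservesFiniteLimits (DerSch.stalkFunctor X x) ∧ PreservesFiniteColimits (DerSch.stalkFunctor X x) := by
  refine ((DerSch.stalkFunctor X x).exact_tfae.out 1 3).1 fun S hS => ?_
  rw [← ShortComplex.exact_map_iff_of_faithful _ (forget₂ (ModuleCat.{u} (X.presheaf.stalk x)) AddCommGrpCat.{u})]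
  exact (M1.exact_iff_stalk S).1 hS x

/-- Semilinearity of the stalk isomorphism of a restriction. -/
theorem exists_restrict_smul {Z : Scheme.{u}} (j : Z ⟶ X) [IsOpenImmersion j] (F : X.Modules) (z : Z)
    (a : Z.presheaf.stalk z) (v : (F.restrict j).presheaf.stalk z) :
    let e : (F.restrict j).presheaf.stalk z ≃+ F.presheaf.stalk (j z) :=
      ((Scheme.Modules.restrictStalkNatIso j z).app F).addCommGroupIsoToAddEquiv
    e (a • v) = (inv (j.stalkMap z)).hom a • e v := by
  intro e0
  let e : (F.restrict j).presheaf.stalk z ≃+ F.presheaf.stalk (j z) :=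
    ((Scheme.Modules.restrictStalkNatIso j z).app F).addCommGroupIsoToAddEquiv
  show e (a • v) = (inv (j.stalkMap z)).hom a • e v
  obtain ⟨W, hW, r, rfl⟩ := Z.presheaf.exists_germ_eq a
  obtain ⟨W', hW', m, rfl⟩ := (F.restrict j).presheaf.exists_germ_eq v
  have key : ∀ (V : Z.Opens) (hV : z ∈ V) (t : Γ(F.restrict j, V)),
      e ((F.restrict j).presheaf.germ V z hV t) =
        F.presheaf.germ (j ''ᵁ V) (j z) ⟨z, hV, rfl⟩ ((F.restrictAppIso j V).hom t) := fun V hV t =>
    ConcreteCategory.congr_hom (Scheme.Modules.germ_restrictStalkNatIso_hom_app j z F hV) t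
  have hstalk : ∀ (V : Z.Opens) (hV : z ∈ V) (t : Γ(Z, V)),
      (inv (j.stalkMap z)).hom (Z.presheaf.germ V z hV t) =
        X.presheaf.germ (j ''ᵁ V) (j z) ⟨z, hV, rfl⟩ ((j.appIso V).inv t) := fun V hV t => by
    have h : (j.appIso V).inv ≫ X.presheaf.germ (j ''ᵁ V) (j z) ⟨z, hV, rfl⟩ =
        Z.presheaf.germ V z hV ≫ inv (j.stalkMap z) := by
      rw [IsIso.eq_comp_inv, Category.assoc, Scheme.Hom.germ_stalkMap, Scheme.Hom.appIso_inv_app_assoc,
        Z.presheaf.germ_res]
    exact (ConcreteCategory.congr_hom h t).symm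
  rw [← TopCat.Presheaf.germ_res_apply Z.presheaf (homOfLE (inf_le_left : W ⊓ W' ≤ W)) z ⟨hW, hW'⟩ r,
    ← TopCat.Presheaf.germ_res_apply (F.restrict j).presheaf (homOfLE (inf_le_right : W ⊓ W' ≤ W')) z ⟨hW, hW'⟩ m,
    ← RH26.gsmul, key, key, hstalk, ← RH26.gsmul]
  congr 1

/-- Stalks of a restriction along an open immersion. -/
theorem nonempty_stalk_restrict_iso {A : CommRingCat.{u}} (j : Spec A ⟶ X) [IsOpenImmersion j] (p : Spec A) :
    Nonempty (DerSch.stalkFunctor X (j p) ⋙ ModuleCat.extendScalars.{u, u, u} (j.stalkMap p).hom ≅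
      Scheme.Modules.restrictFunctor j ⋙ DerSch.stalkFunctor (Spec A) p) := by
  classical
  let τ := (j.stalkMap p).hom
  have hτ : Function.Bijective τ := ConcreteCategory.bijective_of_isIso (j.stalkMap p)
  let adj := ModuleCat.extendRestrictScalarsAdj.{u, u, u} τ
  let eF : ∀ F : X.Modules, (F.restrict j).presheaf.stalk p ≃+ F.presheaf.stalk (j p) := fun F =>
    ((Scheme.Modules.restrictStalkNatIso j p).app F).addCommGroupIsoToAddEquiv
  have hsm : ∀ (F : X.Modules) (a : (Spec A).presheaf.stalk p) (v : (F.restrict j).presheaf.stalk p),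
      eF F (a • v) = (inv (j.stalkMap p)).hom a • eF F v := fun F a v =>
    exists_restrict_smul j F p a v
  let h : ∀ F : X.Modules, (DerSch.stalkFunctor X (j p)).obj F ⟶
      (ModuleCat.restrictScalars.{u} τ).obj ((DerSch.stalkFunctor (Spec A) p).obj (F.restrict j)) := fun F =>
    ModuleCat.ofHom (Y := ↥((ModuleCat.restrictScalars.{u} τ).obj ((DerSch.stalkFunctor (Spec A) p).obj (F.restrict j))))
      { toFun := fun m => (eF F).symm m
        map_add' := fun m m' => map_add (eF F).symm m m'
        map_smul' := fun r m => by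
          show (eF F).symm (r • (show (F.presheaf.stalk (j p) : Type u) from m)) =
            τ r • (eF F).symm (show (F.presheaf.stalk (j p) : Type u) from m)
          apply (eF F).injective
          rw [hsm, AddEquiv.apply_symm_apply, AddEquiv.apply_symm_apply]
          exact congrArg (· • (show (F.presheaf.stalk (j p) : Type u) from m))
            (CategoryTheory.Iso.hom_inv_id_apply (asIso (j.stalkMap p)) r).symm }
  have hiso : ∀ F, IsIso (h F) := fun F => (ConcreteCategory.isIso_iff_bijective _).2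
    (show Function.Bijective ((eF F).symm : _ → _) from (eF F).symm.bijective :)
  haveI : IsIso adj.counit := RelT.isIso_counit τ ⊥ (by
    letI := τ.toAlgebra
    exact IsLocalization.of_le_isUnit_of_bijective (by simp [Algebra.algebraMapSubmonoid]) hτ)
  refine ⟨NatIso.ofComponents (fun F => @asIso _ _ _ _ ((adj.homEquiv _ _).symm (h F)) ?_) fun {F G} f => ?_⟩
  · rw [Adjunction.homEquiv_counit]
    haveI := hiso F
    infer_instance
  · show (ModuleCat.extendScalars.{u, u, u} τ).map ((DerSch.stalkFunctor X (j p)).map f) ≫ (adj.homEquiv _ _).symm (h G) =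
      (adj.homEquiv _ _).symm (h F) ≫ (DerSch.stalkFunctor (Spec A) p).map ((Scheme.Modules.restrictFunctor j).map f)
    rw [← Adjunction.homEquiv_naturality_left_symm, ← Adjunction.homEquiv_naturality_right_symm]
    congr 1
    ext m
    exact (ConcreteCategory.congr_hom ((Scheme.Modules.restrictStalkNatIso j p).inv.naturality f) m)

/-- The local criterion at a point of a chart. -/
theorem local_of_stalk {A : CommRingCat.{u}} [IsNoetherianRing A] [PreservesFiniteLimits (tilde.functor A)]
    (j : Spec A ⟶ X) [IsOpenImmersion j] (I : CochainComplex X.Modules ℤ) (W : DRing.Cx A)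
    (e : DCoh.toD (Spec A) ((DPerf.tildeX A).obj W) ≅ DCoh.toD (Spec A)
      (((Scheme.Modules.restrictFunctor j).mapHomologicalComplex (ComplexShape.up ℤ)).obj I))
    (p : PrimeSpectrum A)
    (hst : Dual.IsDualizing (X.presheaf.stalk ((𝟙 X : X ⟶ X).base (j p)))
      (DRing.toD ((DerSch.stalkCxOver (𝟙 X) (j p)).obj I))) :
    Dual.IsDualizing (Localization p.asIdeal.primeCompl)
      (DerivedCategory.Q.obj (Dlz27.locCx p.asIdeal.primeCompl W)) := by
  let τ := (j.stalkMap p).hom
  obtain ⟨ν⟩ := nonempty_stalk_restrict_iso j p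
  haveI := (exact_stalkFunctor (X := Spec A) p).1
  haveI := (exact_stalkFunctor (X := Spec A) p).2
  let G := DerSch.stalkFunctor (Spec A) p
  have h1 := isDualizing_ext_bijective τ (ConcreteCategory.bijective_of_isIso (j.stalkMap p)) _ hst
  let a : (extCx τ).obj ((DerSch.stalkCxOver (𝟙 X) (j p)).obj I) ≅
      (G.mapHomologicalComplex (ComplexShape.up ℤ)).obj
        (((Scheme.Modules.restrictFunctor j).mapHomologicalComplex (ComplexShape.up ℤ)).obj I) :=
    (NatIso.mapHomologicalComplex (Functor.isoWhiskerRight (RelPCS8.StalkId.stOverIdIso (j p))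
      (ModuleCat.extendScalars.{u, u, u} τ) ≪≫ ν) (ComplexShape.up ℤ)).app I
  let b : (extCx (RelT.ψ (A := A) p)).obj W ≅
      (G.mapHomologicalComplex (ComplexShape.up ℤ)).obj ((DPerf.tildeX A).obj W) :=
    (NatIso.mapHomologicalComplex (RelT.stalkTildeIso (A := A) p) (ComplexShape.up ℤ)).app W
  let c : DerivedCategory.Q.obj ((extCx τ).obj ((DerSch.stalkCxOver (𝟙 X) (j p)).obj I)) ≅
      DerivedCategory.Q.obj ((extCx (RelT.ψ (A := A) p)).obj W) :=
    DerivedCategory.Q.mapIso a ≪≫ (G.mapDerivedCategoryFactors.app _).symm ≪≫ G.mapDerivedCategory.mapIso e.symm ≪≫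
      G.mapDerivedCategoryFactors.app _ ≪≫ DerivedCategory.Q.mapIso b.symm
  have h2 := Dlz27.isDualizing_of_iso c h1
  -- from the stalk of the structure sheaf to the localization
  letI := (RelT.ψ (A := A) p).toAlgebra
  haveI : IsLocalization p.asIdeal.primeCompl ((Spec A).presheaf.stalk p) := RelT.isLocalization_ψ (A := A) p
  let σ := IsLocalization.algEquiv p.asIdeal.primeCompl ((Spec A).presheaf.stalk p) (Localization p.asIdeal.primeCompl)
  have h3 := isDualizing_ext_bijective σ.toRingEquiv.toRingHom σ.bijective _ h2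
  have hσ : σ.toRingEquiv.toRingHom.comp (RelT.ψ (A := A) p) =
      algebraMap A (Localization p.asIdeal.primeCompl) := σ.toAlgHom.comp_algebraMap
  let d : (ModuleCat.extendScalars.{u, u, u} (RelT.ψ (A := A) p)) ⋙
      ModuleCat.extendScalars.{u, u, u} σ.toRingEquiv.toRingHom ≅ Dlz27.locF p.asIdeal.primeCompl :=
    (ModuleCat.extendScalarsComp _ _).symm ≪≫ eqToIso (by rw [hσ]) ≪≫ Dlz27.extLocIso p.asIdeal.primeCompl
  exact Dlz27.isDualizing_of_iso
    (DerivedCategory.Q.mapIso ((NatIso.mapHomologicalComplex d (ComplexShape.up ℤ)).app W)) h3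

theorem injective_restrict_immersion {Z : Scheme.{u}} (j : Z ⟶ X) [IsOpenImmersion j] (I : X.Modules) [Injective I] :
    Injective ((Scheme.Modules.restrictFunctor j).obj I) := by
  let E := InjMod.restrictEquiv j.isoOpensRange.hom
  haveI := InjMod.injective_restrict j.opensRange I
  haveI : Injective (E.functor.obj ((Scheme.Modules.restrictFunctor j.opensRange.ι).obj I)) :=
    E.symm.toAdjunction.map_injective _ inferInstance
  let κ : Scheme.Modules.restrictFunctor j ≅ Scheme.Modules.restrictFunctor j.opensRange.ι ⋙ E.functor :=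
    Scheme.Modules.restrictFunctorCongr j.isoOpensRange_hom_ι.symm ≪≫
      Scheme.Modules.restrictFunctorComp j.isoOpensRange.hom j.opensRange.ι
  exact Injective.of_iso (κ.app I).symm ‹_›

/-- A bounded complex of injectives with coherent cohomology and dualizing stalks is dualizing on each chart. -/
theorem exists_chart [IsLocallyNoetherian X] {A : CommRingCat.{u}} [PreservesFiniteLimits (tilde.functor A)]
    (j : Spec A ⟶ X) [IsOpenImmersion j]
    (I : CochainComplex X.Modules ℤ) (hIinj : ∀ i : ℤ, Injective (I.X i))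
    (hIbdd : ∃ a b : ℤ, ∀ i : ℤ, (i < a ∨ b < i) → IsZero (I.X i))
    (hcoh : ∀ i : ℤ, Coh.IsCoh (DCoh.HD (DCoh.toD X I) i))
    (hst : ∀ x : X, Dual.IsDualizing (X.presheaf.stalk ((𝟙 X : X ⟶ X).base x))
      (DRing.toD ((DerSch.stalkCxOver (𝟙 X) x).obj I))) :
    ∃ ω : Dual.D A, Dual.IsDualizing A ω ∧
      Nonempty ((DPerf.resD j).obj (DCoh.toD X I) ≅ (DPerf.tildeDD A).obj ω) := by
  haveI := DlzSch27.isNoetherianRing_of_chart j
  obtain ⟨a, b, hab⟩ := hIbdd
  let J : CochainComplex (Spec A).Modules ℤ := ((Scheme.Modules.restrictFunctor j).mapHomologicalComplex (ComplexShape.up ℤ)).obj I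
  let fac : (DPerf.resD j).obj (DCoh.toD X I) ≅ DCoh.toD (Spec A) J := (DPerf.resFac j).app I
  have hJinj : ∀ i, Injective (J.X i) := fun i => by
    haveI := hIinj i
    exact injective_restrict_immersion j (I.X i)
  have hJz : ∀ i, (i < a ∨ b < i) → IsZero (J.X i) := fun i hi =>
    (Scheme.Modules.restrictFunctor j).map_isZero (hab i hi)
  have hq : DCoh.IsQCohD ((DPerf.resD j).obj (DCoh.toD X I)) := DQC.isQCohD_resD j fun i => (hcoh i).1
  obtain ⟨ω, ⟨e0⟩⟩ := DQC.exists_iso_of_isQCohD _ hq
  let W : DRing.Cx A := (DerivedCategory.Q (C := ModuleCat.{u} A)).objPreimage ω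
  let eW : DRing.toD W ≅ ω := (DerivedCategory.Q (C := ModuleCat.{u} A)).objObjPreimageIso ω
  let e : DCoh.toD (Spec A) ((DPerf.tildeX A).obj W) ≅ DCoh.toD (Spec A) J :=
    ((tilde.functor A).mapDerivedCategoryFactors.app W).symm ≪≫ (DPerf.tildeDD A).mapIso eW ≪≫ e0 ≪≫ fac
  have hfin : ∀ i, Module.Finite A (Dual.HD A ω i) := fun i => by
    refine M1.finite_of_isFT_tilde _ ((?_ : CohB1.IsFT _))
    refine @M1.isFT_of_epi _ _ _ (Iso.hom ?_) inferInstance (DPerf.isCoh_restrict (hcoh i) j).2
    exact (DPerf.hdResIso j (DCoh.toD X I) i).symm ≪≫ (DerivedCategory.homologyFunctor _ i).mapIso e0.symm ≪≫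
      DPerf.hdTildeIso ω i
  have hid : ∃ a' b' : ℤ, ∀ (N : Type u) [AddCommGroup N] [Module A N] (i : ℤ),
      (i < a' ∨ b' < i) → Subsingleton (Dual.inD A N ⟶ ω⟦i⟧) := by
    refine ⟨a, b, fun N _ _ i hi => ⟨fun f g => (DQC.bijective_map _ _).1 ?_⟩⟩
    haveI : CochainComplex.IsStrictlyGE (J⟦i⟧) (a - i) := (CochainComplex.isStrictlyGE_iff _ _).2 fun n hn =>
      (hJz (n + i) (Or.inl (by omega)) :)
    haveI : ∀ n, Injective ((J⟦i⟧).X n) := fun n => hJinj (n + i)
    haveI : CochainComplex.IsKInjective (J⟦i⟧) := CochainComplex.isKInjective_of_injective _ (a - i)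
    let K := (HomologicalComplex.single (Spec A).Modules (ComplexShape.up ℤ) 0).obj ((tilde.functor A).obj (ModuleCat.of A N))
    have h0 : Subsingleton (DerivedCategory.Q.obj K ⟶ DerivedCategory.Q.obj (J⟦i⟧)) := by
      refine ⟨fun f g => ?_⟩
      have hsurj := (CochainComplex.IsKInjective.Qh_map_bijective
        ((HomotopyCategory.quotient _ _).obj K) (J⟦i⟧)).2
      let q := DerivedCategory.quotientCompQhIso (Spec A).Modules
      have key : ∀ f : DerivedCategory.Q.obj K ⟶ DerivedCategory.Q.obj (J⟦i⟧), f = 0 := fun f => by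
        obtain ⟨g, hg⟩ := hsurj (q.hom.app K ≫ f ≫ q.inv.app _)
        obtain ⟨g', rfl⟩ := (HomotopyCategory.quotient _ _).map_surjective g
        have hz : g' = 0 := HomologicalComplex.from_single_hom_ext
          ((show IsZero ((J⟦i⟧).X 0) from hJz (0 + i) (by simpa using hi)).eq_of_tgt _ _)
        rw [hz, Functor.map_zero, Functor.map_zero] at hg
        have := congrArg (fun t => q.inv.app K ≫ t ≫ q.hom.app (J⟦i⟧)) hg
        simpa using this.symm
      rw [key f, key g]
    let u : (DPerf.tildeDD A).obj (Dual.inD A N) ≅ DerivedCategory.Q.obj K :=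
      ((tilde.functor A).mapDerivedCategorySingleFunctor 0).app (ModuleCat.of A N) ≪≫
        (DerivedCategory.singleFunctorIsoCompQ (Spec A).Modules 0).app _
    let v : (DPerf.tildeDD A).obj (ω⟦i⟧) ≅ DerivedCategory.Q.obj (J⟦i⟧) :=
      ((DPerf.tildeDD A).commShiftIso i).app ω ≪≫ (shiftFunctor _ i).mapIso (e0 ≪≫ fac) ≪≫
        ((DerivedCategory.Q (C := (Spec A).Modules)).commShiftIso i).symm.app J
    exact (Iso.homCongr u v).injective (Subsingleton.elim _ _)
  obtain ⟨W', lo, hi, h1, h2, h3, h4, ⟨e'⟩⟩ := Dlz27.exists_model_of_injdim ω hid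
  refine ⟨ω, Dlz27.isDualizing_of_cover hfin ⟨W', lo, hi, h1, h2, h3, h4, e'⟩ Dlz27.covers_primes fun p => ?_, ⟨e0.symm⟩⟩
  obtain ⟨e''⟩ := Dlz27.exists_locCx_congr p.asIdeal.primeCompl (eW ≪≫ e'.symm)
  exact Dlz27.isDualizing_of_iso e'' (local_of_stalk j I W e p (hst (j p)))

end Groth.Agent.DlzStalk9
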